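import Groth.Prelude.Def_TwC
import Groth.Agent.GrpSchLib.GaPts
import Mathlib.AlgebraicGeometry.ResidueField
import Mathlib.FieldTheory.Finite.Basic

/-! The constant group `ℤ/p` is the kernel of `x ↦ x - x ^ p`. -/

set_option autoImplicit false
set_option linter.unusedSectionVars false
set_option backward.isDefEq.respectTransparency.types false
universe u

open CategoryTheory CategoryTheory.Limits MonoidalCategory CartesianMonoidalCategory MonObj GrpObj AlgebraicGeometry Opposite
open Groth.Agent.GrpSchLib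

noncomputable section

namespace Groth.Agent.KerSeq9.AS

attribute [-instance] ULift.module ULift.module'

variable (p : ℕ) [Fact p.Prime]

/-- The prime field map. -/
def φ (R : Type u) [CommRing R] (h0 : (p : R) = 0) : ZMod p →+* R :=
  letI := ringChar.charP R
  ZMod.castHom ((ringChar.spec R p).1 h0) R

theorem map_φ {R R' : Type u} [CommRing R] [CommRing R'] (g : R →+* R') (hR : (p : R) = 0) (hR' : (p : R') = 0)
    (i : ZMod p) : g (φ p R hR i) = φ p R' hR' i :=
  DFunLike.congr_fun (RingHom.ext_zmod (g.comp (φ p R hR)) (φ p R' hR')) i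

theorem exists_eq_φ {K : Type u} [Field K] (h0 : (p : K) = 0) (c : K) (hc : c ^ p = c) :
    ∃ i, φ p K h0 i = c := by
  classical
  by_contra h
  have hp := (Fact.out : p.Prime)
  have hsub : (insert c (Finset.univ.image (φ p K h0))).val ⊆
      (Polynomial.X ^ p - Polynomial.X : Polynomial K).roots := by
    intro x hx
    rw [Polynomial.mem_roots (FiniteField.X_pow_card_sub_X_ne_zero K hp.one_lt)]
    obtain rfl | ⟨i, rfl⟩ : x = c ∨ ∃ i, φ p K h0 i = x := by simpa using hx
    · simp [hc]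
    · simp [← map_pow]
  have h1 := Polynomial.card_le_degree_of_subset_roots hsub
  rw [Finset.card_insert_of_notMem (by simpa using h), Finset.card_image_of_injective _ (φ p K h0).injective,
    Finset.card_univ, ZMod.card, FiniteField.X_pow_card_sub_X_natDegree_eq K hp.one_lt] at h1
  omega

theorem sub_pow_prime {R : Type u} [CommRing R] (h0 : (p : R) = 0) (a b : R) : (a - b) ^ p = a ^ p - b ^ p := by
  obtain ⟨r, hr⟩ := exists_add_pow_prime_eq (Fact.out : p.Prime) (a - b) b
  rw [sub_add_cancel, h0, zero_mul, zero_mul, zero_mul, add_zero] at hr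
  rw [hr, add_sub_cancel_right]

theorem add_pow_prime {R : Type u} [CommRing R] (h0 : (p : R) = 0) (a b : R) : (a + b) ^ p = a ^ p + b ^ p := by
  have := sub_pow_prime p h0 (a + b) b
  rw [add_sub_cancel_right] at this
  rw [this, sub_add_cancel]

/-- A scheme on which zero is a unit is empty. -/
theorem isEmpty_of_zero_eq_one {Z : Scheme.{u}} (h : (0 : Γ(Z, ⊤)) = 1) : IsEmpty Z := by
  refine ⟨fun z => zero_ne_one' (Z.residueField z) ?_⟩
  rw [← map_zero (Z.evaluation ⊤ z trivial).hom, h, map_one]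

variable {p} {S : Scheme.{u}} (hp : (p : Γ(S, ⊤)) = 0)
include hp

theorem natCast_eq_zero (T : Over S) : (p : Γ(T.left, ⊤)) = 0 := by
  rw [← map_natCast T.hom.appTop.hom, hp, map_zero]

/-- The constant function. -/
abbrev cst (T : Over S) (m : ZMod p) : Γ(T.left, ⊤) := φ p _ (natCast_eq_zero hp T) m

theorem map_cst {T T' : Over S} (g : T' ⟶ T) (m : ZMod p) : g.left.appTop (cst hp T m) = cst hp T' m :=
  map_φ p g.left.appTop.hom _ _ m

variable {G' : Over S} [GrpObj G'] (e : G' ≅ TwC.const S (Multiplicative (ZMod p)))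
  (he : TwC.IsConstGrp (Multiplicative (ZMod p)) G' e) (i : G' ⟶ Red.Ga S) [IsMonHom i]
  (hi : Red.gaFn (TwC.pt S (Multiplicative (ZMod p)) (Multiplicative.ofAdd 1) ≫ e.inv ≫ i) = 1)

/-- The point with constant index. -/
abbrev cpt (T : Over S) (m : ZMod p) : T ⟶ G' :=
  toUnit T ≫ TwC.pt S (Multiplicative (ZMod p)) (Multiplicative.ofAdd m) ≫ e.inv

omit hp in
theorem cpt_zero (he : TwC.IsConstGrp (Multiplicative (ZMod p)) G' e) (T : Over S) : cpt e T 0 = 1 := by
  have h := he (Multiplicative.ofAdd 0) (Multiplicative.ofAdd 0)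
  rw [ofAdd_zero, _root_.one_mul] at h
  rw [cpt, ofAdd_zero, mul_eq_left.mp h, MonObj.comp_one]

include he hi in
theorem gaFn_pt (m : ZMod p) :
    Red.gaFn (TwC.pt S (Multiplicative (ZMod p)) (Multiplicative.ofAdd m) ≫ e.inv ≫ i) = cst hp _ m := by
  obtain ⟨k, rfl⟩ := ZMod.natCast_zmod_surjective m
  induction k with
  | zero =>
    have h := he (Multiplicative.ofAdd 0) (Multiplicative.ofAdd 0)
    rw [ofAdd_zero, _root_.one_mul] at h
    rw [Nat.cast_zero, ofAdd_zero, ← Category.assoc, mul_eq_left.mp h, MonObj.one_comp i, GaPts.gaFn_one, cst, map_zero]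
  | succ k ih =>
    have h := he (Multiplicative.ofAdd (k : ZMod p)) (Multiplicative.ofAdd 1)
    rw [← ofAdd_add] at h
    rw [Nat.cast_succ, ← Category.assoc, ← h, MonObj.mul_comp _ _ i, GaPts.gaFn_mul, Category.assoc, ih, Category.assoc, hi,
      cst, cst, map_add, map_one]

include he hi in
theorem gaFn_cpt (T : Over S) (m : ZMod p) : Red.gaFn (cpt e T m ≫ i) = cst hp T m := by
  rw [cpt, Category.assoc, Category.assoc, GaPts.gaFn_comp, gaFn_pt hp e he i hi, map_cst]

include he hi in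
theorem eq_one_of_comp_eq_one (T : Over S) (z : T ⟶ G') (hz : z ≫ i = 1) : z = 1 := by
  let h := z ≫ e.hom
  let F := fun _ : Multiplicative (ZMod p) => S
  let U : Multiplicative (ZMod p) → T.left.Opens := fun m => h.left ⁻¹ᵁ (Sigma.ι F m).opensRange
  have hU : ⨆ m, U m = ⊤ := top_le_iff.mp fun x _ => by
    obtain ⟨m, y, hy⟩ := (sigmaOpenCover F).exists_eq (h.left x)
    exact TopologicalSpace.Opens.mem_iSup.mpr ⟨m, y, hy⟩
  ext1
  refine (T.left.openCoverOfIsOpenCover U hU).hom_ext _ _ fun (m : Multiplicative (ZMod p)) => ?_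
  let W : Over S := Over.mk ((U m).ι ≫ T.hom)
  let j : W ⟶ T := Over.homMk (U m).ι rfl
  change (j ≫ z).left = (j ≫ (1 : T ⟶ G')).left
  congr 1
  rw [MonObj.comp_one]
  have hsub : Set.range ((U m).ι ≫ h.left) ⊆ Set.range (Sigma.ι F m) := by
    rintro _ ⟨y, rfl⟩
    exact y.2
  let l := IsOpenImmersion.lift (Sigma.ι F m) ((U m).ι ≫ h.left) hsub
  have hl : l ≫ Sigma.ι F m = (U m).ι ≫ h.left := IsOpenImmersion.lift_fac _ _ _
  have hl2 : l = W.hom := by
    have h1 := congrArg (· ≫ Sigma.desc fun _ : Multiplicative (ZMod p) => 𝟙 S) hl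
    simp only [Category.assoc, Sigma.ι_desc] at h1
    refine ((Category.comp_id l).symm.trans h1).trans ?_
    exact (U m).ι ≫= Over.w h
  have hjz : j ≫ z = cpt e W m.toAdd := by
    have : j ≫ h = toUnit W ≫ TwC.pt S (Multiplicative (ZMod p)) m := by
      ext1
      change (U m).ι ≫ h.left = W.hom ≫ Sigma.ι F m
      rw [← hl, hl2]
    rw [cpt, ofAdd_toAdd, ← Category.assoc, ← this, Category.assoc, Category.assoc, Iso.hom_inv_id, Category.comp_id]
  by_cases hm : m.toAdd = 0
  · rw [hjz, hm, cpt_zero e he]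
  · have h0 : cst hp W m.toAdd = 0 := by
      rw [← gaFn_cpt hp e he i hi, ← hjz, Category.assoc, hz, MonObj.comp_one, GaPts.gaFn_one]
    have h1 : (0 : Γ(W.left, ⊤)) = 1 := by
      rw [← map_one (φ p _ (natCast_eq_zero hp W)), ← mul_inv_cancel₀ hm, map_mul]
      change _ = cst hp W m.toAdd * _
      rw [h0, zero_mul]
    have := isEmpty_of_zero_eq_one h1
    ext1
    exact isInitialOfIsEmpty.hom_ext _ _

include he hi in
theorem exists_comp_eq (T : Over S) (z : T ⟶ Red.Ga S) (hz : Red.gaFn z ^ p = Red.gaFn z) : ∃ g, g ≫ i = z := by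
  let a := Red.gaFn z
  let U : ZMod p → T.left.Opens := fun m => T.left.basicOpen (1 - (a - cst hp T m) ^ (p - 1))
  have hp1 : p - 1 ≠ 0 := Nat.sub_ne_zero_of_lt (Fact.out : p.Prime).one_lt
  have hU : ⨆ m, U m = ⊤ := top_le_iff.mp fun x _ => by
    let ev := (T.left.evaluation ⊤ x trivial).hom
    have h0 : (p : T.left.residueField x) = 0 := by rw [← map_natCast ev, natCast_eq_zero hp T, map_zero]
    obtain ⟨m, hm⟩ := exists_eq_φ p h0 (ev a) (by rw [← map_pow, hz])
    refine TopologicalSpace.Opens.mem_iSup.mpr ⟨m, (T.left.evaluation_ne_zero_iff_mem_basicOpen (U := ⊤) x trivial _).mp ?_⟩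
    change ev _ ≠ 0
    rw [map_sub, map_one, map_pow, map_sub, cst, map_φ p ev _ h0, hm, sub_self, zero_pow hp1, sub_zero]
    exact one_ne_zero
  let W : ZMod p → Over S := fun m => Over.mk ((U m).ι ≫ T.hom)
  let j : ∀ m, W m ⟶ T := fun m => Over.homMk (U m).ι rfl
  have hj : ∀ m, (j m).left.appTop a = cst hp (W m) m := fun m => by
    let b := (j m).left.appTop a - cst hp (W m) m
    have hb : b ^ p = b := by
      rw [sub_pow_prime p (natCast_eq_zero hp _), ← map_pow, hz, cst, ← map_pow, ZMod.pow_card]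
    have hu : IsUnit (1 - b ^ (p - 1)) := by
      have h1 : IsUnit ((U m).ι.appTop (1 - (a - cst hp T m) ^ (p - 1))) := by
        have h2 : T.left.basicOpen (1 - (a - cst hp T m) ^ (p - 1)) = U m := rfl
        have h3 : ((U m : Scheme.{u})).basicOpen ((U m).ι.appTop (1 - (a - cst hp T m) ^ (p - 1))) = ⊤ := by
          rw [← Scheme.preimage_basicOpen_top, h2]
          exact Scheme.Opens.ι_preimage_self (U m)
        exact RingedSpace.isUnit_of_isUnit_germ _ _ _ fun y hy =>
          (Scheme.mem_basicOpen' (U m : Scheme.{u}) (x := ⟨y, hy⟩) _).mp (by rw [h3]; trivial)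
      have h4 : (j m).left.appTop (1 - (a - cst hp T m) ^ (p - 1)) = 1 - b ^ (p - 1) := by
        rw [map_sub, map_one, map_pow, map_sub, map_cst]
      rw [← h4]
      exact h1
    have hb0 : (1 - b ^ (p - 1)) * b = 0 := by
      rw [sub_mul, _root_.one_mul, ← pow_succ, Nat.sub_add_cancel (Fact.out : p.Prime).one_lt.le, hb, sub_self]
    exact sub_eq_zero.mp (hu.mul_right_eq_zero.mp hb0)
  let 𝒰 := T.left.openCoverOfIsOpenCover U hU
  have hcompat : ∀ (m k : ZMod p), pullback.fst (𝒰.f m) (𝒰.f k) ≫ (cpt e (W m) m).left =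
      pullback.snd (𝒰.f m) (𝒰.f k) ≫ (cpt e (W k) k).left := fun m k => by
    let fm : pullback (𝒰.f m) (𝒰.f k) ⟶ (W m).left := pullback.fst (𝒰.f m) (𝒰.f k)
    let fk : pullback (𝒰.f m) (𝒰.f k) ⟶ (W k).left := pullback.snd (𝒰.f m) (𝒰.f k)
    have hcond : fm ≫ (j m).left = fk ≫ (j k).left := pullback.condition
    let P : Over S := Over.mk (fm ≫ (W m).hom)
    let q₁ : P ⟶ W m := Over.homMk fm rfl
    let q₂ : P ⟶ W k := Over.homMk fk (by
      change fk ≫ (j k).left ≫ T.hom = fm ≫ (j m).left ≫ T.hom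
      rw [reassoc_of% hcond])
    have hq : q₁ ≫ j m = q₂ ≫ j k := Over.OverMorphism.ext hcond
    have hmk : cst hp P m = cst hp P k := by
      rw [← map_cst hp q₁, ← map_cst hp q₂, ← hj, ← hj, ← GmPts.appTop_comp_apply, ← GmPts.appTop_comp_apply,
        ← Over.comp_left, ← Over.comp_left, hq]
    change (q₁ ≫ cpt e (W m) m).left = (q₂ ≫ cpt e (W k) k).left
    by_cases h : m = k
    · subst h
      congr 1
      simp only [cpt, ← Category.assoc]
      rw [toUnit_unique (q₁ ≫ toUnit _) (q₂ ≫ toUnit _)]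
    · have h1 : (0 : Γ(P.left, ⊤)) = 1 := by
        rw [← map_one (φ p _ (natCast_eq_zero hp P)), ← mul_inv_cancel₀ (sub_ne_zero.mpr h), map_mul, map_sub]
        change _ = (cst hp P m - cst hp P k) * _
        rw [hmk, sub_self, zero_mul]
      have := isEmpty_of_zero_eq_one h1
      exact isInitialOfIsEmpty.hom_ext _ _
  let gl : T.left ⟶ G'.left := Scheme.Cover.glueMorphisms 𝒰 (fun m => (cpt e (W m) m).left) hcompat
  have hgl : ∀ m, (U m).ι ≫ gl = (cpt e (W m) m).left := fun m => Scheme.Cover.ι_glueMorphisms 𝒰 _ hcompat m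
  have hw : gl ≫ G'.hom = T.hom := 𝒰.hom_ext _ _ fun m => by
    change (U m).ι ≫ gl ≫ G'.hom = (U m).ι ≫ T.hom
    rw [reassoc_of% (hgl m)]
    exact Over.w (cpt e (W m) m)
  refine ⟨Over.homMk gl hw, ?_⟩
  ext1
  refine 𝒰.hom_ext _ _ fun m => ?_
  change (j m ≫ Over.homMk gl hw ≫ i).left = (j m ≫ z).left
  congr 1
  rw [← Category.assoc, show j m ≫ Over.homMk gl hw = cpt e (W m) m from Over.OverMorphism.ext (hgl m)]
  refine GaPts.gaFn_injective ?_
  change Red.gaFn _ = Red.gaFn _
  rw [gaFn_cpt hp e he i hi, GaPts.gaFn_comp, hj]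

end Groth.Agent.KerSeq9.AS
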