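import Groth.Agent.GrpSchLib.GaPts
import Mathlib.RingTheory.AdjoinRoot
import Mathlib.RingTheory.RingHom.FaithfullyFlat
import Mathlib.RingTheory.Flat.FaithfullyFlat.Basic

/-! `x ↦ x - x ^ p` is faithfully flat on the affine line. -/

set_option autoImplicit false
universe u

open Polynomial Groth.Agent.GrpSchLib

noncomputable section

namespace Groth.Agent.KerSeq9.ASFlat

attribute [-instance] ULift.module ULift.module'

theorem faithfullyFlat_aeval {R : Type u} [CommRing R] [Nontrivial R] (q : R[X]) (hq : q.Monic) (hd : 0 < q.natDegree) :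
    (aeval q : R[X] →ₐ[R] R[X]).toRingHom.FaithfullyFlat := by
  let f : R[X][X] := q.map C - C X
  have hdeg : (C (X : R[X])).degree < (q.map C).degree := by
    rw [hq.degree_map]
    exact degree_C_le.trans_lt (natDegree_pos_iff_degree_pos.mp hd)
  have hf : f.Monic := (hq.map C).sub_of_left hdeg
  have h0 : f.eval₂ (aeval q : R[X] →ₐ[R] R[X]).toRingHom X = 0 := by
    rw [eval₂_sub, eval₂_map, eval₂_C]
    change eval₂ ((aeval q : R[X] →ₐ[R] R[X]).toRingHom.comp C) X q - (aeval q) X = 0
    rw [aeval_X, show (aeval q : R[X] →ₐ[R] R[X]).toRingHom.comp C = C from RingHom.ext fun r => aeval_C q r,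
      eval₂_C_X, sub_self]
  let fwd : AdjoinRoot f →+* R[X] := AdjoinRoot.lift _ X h0
  let bwd : R[X] →+* AdjoinRoot f := eval₂RingHom ((AdjoinRoot.of f).comp C) (AdjoinRoot.root f)
  have hrel : q.eval₂ ((AdjoinRoot.of f).comp C) (AdjoinRoot.root f) = AdjoinRoot.of f X := by
    have h := AdjoinRoot.eval₂_root f
    rwa [eval₂_sub, eval₂_map, eval₂_C, sub_eq_zero] at h
  have h1 : fwd.comp bwd = RingHom.id _ := by
    refine Polynomial.ringHom_ext (fun r => ?_) ?_
    · simp [fwd, bwd]
    · simp [fwd, bwd]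
  have h2 : bwd.comp fwd = RingHom.id _ := by
    have hA : (bwd.comp fwd).comp (AdjoinRoot.of f) = AdjoinRoot.of f := by
      refine Polynomial.ringHom_ext (fun r => ?_) ?_
      · simp [fwd, bwd]
      · simp [fwd, bwd, hrel]
    refine RingHom.ext fun x => ?_
    induction x using AdjoinRoot.induction_on with
    | ih x =>
      induction x using Polynomial.induction_on' with
      | add a b ha hb => simp only [map_add, ha, hb]
      | monomial n c =>
        rw [← C_mul_X_pow_eq_monomial, map_mul, map_pow, AdjoinRoot.mk_C, AdjoinRoot.mk_X, map_mul, map_pow]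
        congr 1
        · exact RingHom.congr_fun hA c
        · simp [fwd, bwd]
  let e : AdjoinRoot f ≃+* R[X] := RingEquiv.ofRingHom fwd bwd h1 h2
  have : Module.Free R[X] (AdjoinRoot f) := hf.free_adjoinRoot
  have : Nontrivial (AdjoinRoot f) := e.nontrivial
  have : Module.FaithfullyFlat R[X] (AdjoinRoot f) := inferInstance
  have h3 : (algebraMap R[X] (AdjoinRoot f)).FaithfullyFlat := RingHom.faithfullyFlat_algebraMap_iff.mpr inferInstance
  have h4 : (aeval q : R[X] →ₐ[R] R[X]).toRingHom = (e : AdjoinRoot f →+* R[X]).comp (algebraMap R[X] (AdjoinRoot f)) :=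
    RingHom.ext fun x => (AdjoinRoot.lift_of h0).symm
  rw [h4]
  exact RingHom.FaithfullyFlat.stableUnderComposition _ _ h3 (RingHom.FaithfullyFlat.of_bijective e.bijective)

variable (p : ℕ)

/-- The ring map of `x ↦ x - x ^ p`. -/
abbrev ψring : GaPts.Coord.{u} →+* GaPts.Coord.{u} := GaPts.ringHomOfFn (GaPts.gen - GaPts.gen ^ p)

theorem faithfullyFlat_ψring (hp : 1 < p) : (ψring.{u} p).FaithfullyFlat := by
  let R := ULift.{u} ℤ
  let e₁ : R[X] →+* GaPts.Coord.{u} := eval₂RingHom (algebraMap R _) GaPts.gen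
  let e₂ : GaPts.Coord.{u} →+* R[X] := GaPts.ringHomOfFn X
  have h1 : e₁.comp e₂ = RingHom.id _ := GaPts.ringHom_ext (by simp [e₁, e₂, GaPts.ringHomOfFn_gen])
  have h2 : e₂.comp e₁ = RingHom.id _ := by
    refine Polynomial.ringHom_ext (fun r => ?_) (by simp [e₁, e₂, GaPts.ringHomOfFn_gen])
    obtain ⟨n⟩ := r
    change ((e₂.comp e₁).comp C) ⟨n⟩ = C ⟨n⟩
    exact RingHom.congr_fun (RingHom.ext fun s => by
      obtain ⟨m⟩ := s
      exact RingHom.congr_fun (RingHom.ext_int (((e₂.comp e₁).comp C).comp ULift.ringEquiv.symm.toRingHom)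
        (C.comp ULift.ringEquiv.symm.toRingHom)) m) _
  have hb₁ : Function.Bijective e₁ := (RingEquiv.ofRingHom e₁ e₂ h1 h2).bijective
  have hb₂ : Function.Bijective e₂ := (RingEquiv.ofRingHom e₂ e₁ h2 h1).bijective
  have hd : (X ^ p - X : R[X]).natDegree = p := by
    rw [natDegree_sub_eq_left_of_natDegree_lt] <;> simp [hp]
  have hq := faithfullyFlat_aeval (X ^ p - X : R[X])
    ((monic_X_pow p).sub_of_left (by rw [degree_X, degree_X_pow]; exact_mod_cast hp)) (by omega)
  let n : R[X] →+* R[X] := (aeval (-X : R[X]) : R[X] →ₐ[R] R[X]).toRingHom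
  have hn : n.comp n = RingHom.id _ := Polynomial.ringHom_ext (fun r => by simp [n]) (by simp [n])
  have hψ : ψring.{u} p = e₁.comp ((((aeval (X ^ p - X : R[X])) : R[X] →ₐ[R] R[X]).toRingHom.comp n).comp e₂) := by
    refine GaPts.ringHom_ext ?_
    rw [GaPts.ringHomOfFn_gen]
    simp [e₁, e₂, n, GaPts.ringHomOfFn_gen]
  rw [hψ]
  exact RingHom.FaithfullyFlat.stableUnderComposition _ _ (RingHom.FaithfullyFlat.stableUnderComposition _ _
    (RingHom.FaithfullyFlat.of_bijective hb₂) (RingHom.FaithfullyFlat.stableUnderComposition _ _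
    (RingHom.FaithfullyFlat.of_bijective (RingEquiv.ofRingHom n n hn hn).bijective) hq))
    (RingHom.FaithfullyFlat.of_bijective hb₁)

end Groth.Agent.KerSeq9.ASFlat
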