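import Groth.Prelude.Def_NonAbH2
import Groth.Prelude.Def_GmPts
import Mathlib.AlgebraicGeometry.Morphisms.Flat

/-! Short exact sequences of group schemes from kernels; points of diagonalisable groups. -/

set_option autoImplicit false
set_option backward.isDefEq.respectTransparency.types false
universe u

open CategoryTheory CategoryTheory.Limits MonoidalCategory CartesianMonoidalCategory MonObj GrpObj AlgebraicGeometry Opposite

noncomputable section

namespace Groth.Agent.KerSeq9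

variable {S : Scheme.{u}}

/-- Translations identify `G × kernel` with the kernel pair. -/
theorem isPullback_of_kernel {G' G G'' : Over S} [GrpObj G'] [GrpObj G] [GrpObj G''] (u : G' ⟶ G) (v : G ⟶ G'')
    [IsMonHom v] [Mono u] (huv : u ≫ v = 1) (hker : ∀ (T : Over S) (z : T ⟶ G), z ≫ v = 1 → ∃ g, g ≫ u = z) :
    IsPullback (fst G G') ((G ◁ u) ≫ μ[G]) v v := by
  have hμ : (G ◁ u) ≫ μ[G] = fst G G' * (snd G G' ≫ u) := by
    rw [Hom.mul_def]
    congr 1
  have w : fst G G' ≫ v = ((G ◁ u) ≫ μ[G]) ≫ v := by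
    rw [hμ, MonObj.mul_comp, Category.assoc, huv, MonObj.comp_one, _root_.mul_one]
  have hex : ∀ s : PullbackCone v v, ∃ g, g ≫ u = s.fst⁻¹ * s.snd := fun s =>
    hker _ _ (by rw [MonObj.mul_comp, GrpObj.inv_comp, s.condition, inv_mul_cancel])
  refine IsPullback.of_isLimit' ⟨w⟩ (PullbackCone.IsLimit.mk w (fun s => lift s.fst (hex s).choose)
    (fun s => lift_fst _ _) (fun s => ?_) fun s m hm₁ hm₂ => ?_)
  · rw [hμ, MonObj.comp_mul, lift_fst, lift_snd_assoc, (hex s).choose_spec, mul_inv_cancel_left]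
  · rw [hμ, MonObj.comp_mul, hm₁] at hm₂
    refine CartesianMonoidalCategory.hom_ext _ _ (by rw [lift_fst, hm₁]) ?_
    rw [lift_snd, ← cancel_mono u, (hex s).choose_spec, Category.assoc, ← hm₂, inv_mul_cancel_left]

section DS

variable {M N : Type} [AddCommGroup M] [AddCommGroup N] {T : Over S}

abbrev CoordM (M : Type) : Type u := MonoidAlgebra (ULift.{u} ℤ) (Multiplicative M)

abbrev mapC (φ : M →+ N) : CoordM.{u} M →+* CoordM.{u} N :=
  (MonoidAlgebra.mapDomainAlgHom (ULift.{u} ℤ) (ULift.{u} ℤ) (AddMonoidHom.toMultiplicative φ)).toRingHom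

abbrev specPtM (x : T ⟶ Red.DS S M) : T.left ⟶ Spec (CommRingCat.of (CoordM.{u} M)) :=
  x.left ≫ pullback.fst (Red.diag (ULift.{u} ℤ) M).hom (GmPts.toBaseZ S)

/-- The ring map classified by a point of `D_S(M)`. -/
def fnM (x : T ⟶ Red.DS S M) : CoordM.{u} M →+* Γ(T.left, ⊤) :=
  ((Scheme.ΓSpecIso (CommRingCat.of (CoordM.{u} M))).inv ≫ (specPtM x).appTop).hom

theorem fnM_gm (x : T ⟶ Red.Gm S) : fnM x = GmPts.ringHomOfPt x := rfl

theorem fnM_comp_DSmap (x : T ⟶ Red.DS S N) (φ : M →+ N) :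
    fnM (x ≫ Red.DSmap S φ) = (fnM x).comp (mapC φ) := by
  have h : specPtM (x ≫ Red.DSmap S φ) = specPtM x ≫ Spec.map (CommRingCat.ofHom (mapC φ)) := by
    rw [specPtM, Over.comp_left, Category.assoc, Category.assoc]
    exact x.left ≫= GmPts.pullback_map_left_fst (S := S) (Red.diagMap (ULift.{u} ℤ) φ)
  refine RingHom.ext fun c => ?_
  change (specPtM (x ≫ Red.DSmap S φ)).appTop ((Scheme.ΓSpecIso _).inv c) = _
  rw [h, GmPts.appTop_comp_apply]
  change (specPtM x).appTop _ = (specPtM x).appTop ((Scheme.ΓSpecIso _).inv (mapC φ c))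
  exact congrArg _ (congrArg (fun ψ => (ConcreteCategory.hom ψ) c)
    (Scheme.ΓSpecIso_inv_naturality (CommRingCat.ofHom (mapC φ)))).symm

/-- The point of `D_S(M)` of a ring map. -/
def ptM (f : CoordM.{u} M →+* Γ(T.left, ⊤)) : T ⟶ Red.DS S M :=
  Over.homMk (pullback.lift (ΓSpec.adjunction.homEquiv T.left (op (CommRingCat.of (CoordM.{u} M))) (CommRingCat.ofHom f).op)
    T.hom (specULiftZIsTerminal.hom_ext _ _)) (pullback.lift_snd _ _ _)

theorem fnM_ptM (f : CoordM.{u} M →+* Γ(T.left, ⊤)) : fnM (ptM f : T ⟶ Red.DS S M) = f := by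
  have h : specPtM (ptM f : T ⟶ Red.DS S M) = ΓSpec.adjunction.homEquiv T.left (op (CommRingCat.of (CoordM.{u} M)))
      (CommRingCat.ofHom f).op := pullback.lift_fst _ _ _
  rw [fnM, h]
  exact congrArg CommRingCat.Hom.hom (ΓSpecIso_inv_ΓSpec_adjunction_homEquiv (CommRingCat.ofHom f))

theorem unitOfPt_one : GmPts.unitOfPt (1 : T ⟶ Red.Gm S) = 1 := by
  have h : GmPts.unitOfPt (1 : T ⟶ Red.Gm S) * GmPts.unitOfPt (1 : T ⟶ Red.Gm S) = GmPts.unitOfPt (1 : T ⟶ Red.Gm S) :=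
    Units.ext ((GmPts.gmFn_mul (1 : T ⟶ Red.Gm S) 1).symm.trans (congrArg Red.gmFn (_root_.one_mul (1 : T ⟶ Red.Gm S))))
  exact mul_eq_left.mp h

theorem ringHomOfPt_chi (x : T ⟶ Red.Gm S) (n : ℤ) :
    (GmPts.unitOfPt (x ≫ Red.chi S n) : Γ(T.left, ⊤)) = ((GmPts.unitOfPt x ^ n : (Γ(T.left, ⊤))ˣ) : Γ(T.left, ⊤)) := by
  rw [GmPts.val_unitOfPt, ← GmPts.ringHomOfPt_tPow_one, ← fnM_gm, Red.chi, fnM_comp_DSmap, fnM_gm,
    ← GmPts.ringHomOfUnit_unitOfPt x, RingHom.comp_apply, ← GmPts.ringHomOfUnit_tPow]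
  congr 1
  simp [mapC, GmPts.tPow]

theorem ptOfUnit_inj {x y : T ⟶ Red.Gm S} (h : GmPts.unitOfPt x = GmPts.unitOfPt y) : x = y := by
  rw [← GmPts.ptOfUnit_unitOfPt x, h, GmPts.ptOfUnit_unitOfPt]

end DS

end Groth.Agent.KerSeq9
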